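import Groth.Agent.PunctAlg.Finite

/-!
# Finite modules of sections modelling coherent modules on a punctured spectrum
-/

set_option autoImplicit false
set_option linter.style.haveILetI false
set_option linter.unusedSectionVars false
set_option backward.isDefEq.respectTransparency false
set_option backward.isDefEq.respectTransparency.types false

universe u

open CategoryTheory CategoryTheory.Limits AlgebraicGeometry TopologicalSpace Opposite

noncomputable section

namespace Groth.Agent.PunctModSys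

open Groth.Agent Groth.Agent.PunctAlg

variable {A : Type u} [CommRing A] (a : Ideal A)

local notation "U" => LocCoh.puncturedOpen A a

/-- `N ↦ N~|U` is left adjoint to sections over `U`. -/
def adjC : H1Punct.Φ U ⊣ secF U :=
  (tilde.adjunction (R := CommRingCat.of A)).comp (Scheme.Modules.restrictAdjunction (Scheme.Opens.ι U))

theorem unit_adjC (N : ModuleCat.{u} A) : (adjC a).unit.app N = eSec a N := by
  rw [adjC, Adjunction.comp_unit_app]
  rfl

/-- The map to sections of a map out of `N~|U`. -/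
def sh {N : ModuleCat.{u} A} {F : (U : Scheme.{u}).Modules} (φ : PhiU a N ⟶ F) : N →ₗ[A] (secF U).obj F :=
  (eSec a N ≫ (secF U).map φ).hom

theorem sh_apply {N : ModuleCat.{u} A} {F : (U : Scheme.{u}).Modules} (φ : PhiU a N ⟶ F) (x : N) :
    sh a φ x = (secF U).map φ (eSec a N x) := rfl

theorem hom_ext {N : ModuleCat.{u} A} {F : (U : Scheme.{u}).Modules} {φ φ' : PhiU a N ⟶ F}
    (h : ∀ x, sh a φ x = sh a φ' x) : φ = φ' := by
  apply ((adjC a).homEquiv N F).injective
  rw [Adjunction.homEquiv_unit, Adjunction.homEquiv_unit, unit_adjC]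
  ext x
  exact h x

theorem sh_comp {N : ModuleCat.{u} A} {F F' : (U : Scheme.{u}).Modules} (φ : PhiU a N ⟶ F) (ψ : F ⟶ F') (x : N) :
    sh a (φ ≫ ψ) x = (secF U).map ψ (sh a φ x) := by
  rw [sh_apply, Functor.map_comp]
  rfl

theorem sh_map {N N' : ModuleCat.{u} A} (f : N ⟶ N') {F : (U : Scheme.{u}).Modules} (φ : PhiU a N' ⟶ F) (x : N) :
    sh a ((H1Punct.Φ U).map f ≫ φ) x = sh a φ (f x) := by
  rw [sh_apply, sh_apply, Functor.map_comp]
  exact congrArg ((secF U).map φ) (congr(($(eSec_natural a f)).hom x))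

theorem exists_of_sh {N : ModuleCat.{u} A} {F : (U : Scheme.{u}).Modules} (f : N →ₗ[A] (secF U).obj F) :
    ∃ φ : PhiU a N ⟶ F, ∀ x, sh a φ x = f x := by
  let g : N ⟶ (secF U).obj F := ConcreteCategory.ofHom f
  refine ⟨((adjC a).homEquiv N F).symm g, fun x => ?_⟩
  have h := ((adjC a).homEquiv N F).apply_symm_apply g
  rw [Adjunction.homEquiv_unit, unit_adjC] at h
  exact congr(($h).hom x)

/-- Multiplication by a scalar on `N~|U`. -/
theorem smulMod_Φ (N : ModuleCat.{u} A) (b : A) :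
    Formal.smulMod A (PhiU a N) b = (H1Punct.Φ U).map (ModuleCat.ofHom (b • LinearMap.id (R := A) (M := N))) := by
  refine hom_ext a fun x => ?_
  rw [sh_apply, secF_smul, ← Category.comp_id ((H1Punct.Φ U).map _), sh_map, sh_apply, CategoryTheory.Functor.map_id]
  exact (map_smul (eSec a N).hom b x).symm

variable [IsNoetherianRing A]

omit [IsNoetherianRing A] in
lemma exists_notMem {x : Spec (CommRingCat.of A)} (hx : x ∈ (U : (Spec (CommRingCat.of A)).Opens)) (m : ℕ) :
    ∃ s : A, s ∉ x.asIdeal ∧ s ∈ a ^ m := by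
  obtain ⟨b, hb, hbx⟩ : ∃ b ∈ a, b ∉ x.asIdeal := Set.not_subset.1 hx
  exact ⟨b ^ m, fun h => hbx (x.isPrime.mem_of_pow_mem m h), Ideal.pow_mem_pow hb m⟩

theorem isZero_Φ {N : ModuleCat.{u} A} (h : ∀ x : N, ∃ m : ℕ, ∀ b ∈ a ^ m, b • x = 0) :
    IsZero (PhiU a N) := by
  let Z : ModuleCat.{u} A := ModuleCat.of A PUnit.{u + 1}
  haveI : Subsingleton Z := inferInstanceAs (Subsingleton PUnit.{u + 1})
  haveI := H1Punct.isIso_Φ U (M := N) (N := Z) 0 (fun z => ⟨0, Subsingleton.elim _ _⟩) fun x hx y _ => by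
    obtain ⟨m, hm⟩ := h y
    obtain ⟨s, hs, hsm⟩ := exists_notMem a hx m
    exact ⟨s, hs, hm s hsm⟩
  exact ((H1Punct.Φ U).map_isZero (ModuleCat.isZero_of_subsingleton Z)).of_iso
    (asIso ((H1Punct.Φ U).map (0 : N ⟶ Z)))

/-- Sections vanishing on `U` are torsion. -/
theorem torsion_of_eSec {N : ModuleCat.{u} A} (x : N) (h : eSec a N x = 0) :
    ∃ m : ℕ, ∀ b ∈ a ^ m, b • x = 0 := by
  have h1 := eSec_ker a N (LinearMap.mem_ker.2 h)
  exact h1

theorem torsion_of_isZero {N : ModuleCat.{u} A} (h : IsZero (PhiU a N)) (x : N) :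
    ∃ m : ℕ, ∀ b ∈ a ^ m, b • x = 0 := by
  haveI := ModuleCat.subsingleton_of_isZero ((secF U).map_isZero h)
  exact torsion_of_eSec a x (Subsingleton.elim _ _)

instance preservesFiniteLimits_Φ : PreservesFiniteLimits (H1Punct.Φ (A := A) U) := by
  haveI : PreservesFiniteLimits (tilde.functor (CommRingCat.of A)) :=
    QCoh.tilde_preservesFiniteLimits (R := CommRingCat.of A)
  exact comp_preservesFiniteLimits _ _

instance preservesFiniteColimits_Φ : PreservesFiniteColimits (H1Punct.Φ (A := A) U) := by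
  haveI := (adjC a).isLeftAdjoint
  infer_instance

/-- A map with torsion kernel and cokernel is an isomorphism on `U`. -/
theorem isIso_Φ_map {M N : ModuleCat.{u} A} (f : M ⟶ N)
    (hk : ∀ x, f x = 0 → ∃ m : ℕ, ∀ b ∈ a ^ m, b • x = 0)
    (hc : ∀ y : N, ∃ m : ℕ, ∀ b ∈ a ^ m, b • y ∈ LinearMap.range f.hom) :
    IsIso ((H1Punct.Φ U).map f) := by
  have hK : IsZero (PhiU a (kernel f)) := isZero_Φ a fun x => by
    obtain ⟨m, hm⟩ := hk ((kernel.ι f) x) (congr(($(kernel.condition f)).hom x))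
    exact ⟨m, fun b hb => (ModuleCat.mono_iff_injective (kernel.ι f)).1 inferInstance
      (((kernel.ι f).hom.map_smul b x).trans ((hm b hb).trans (map_zero _).symm))⟩
  have hC : IsZero (PhiU a (cokernel f)) := isZero_Φ a fun x => by
    obtain ⟨y, rfl⟩ := (ModuleCat.epi_iff_surjective (cokernel.π f)).1 inferInstance x
    obtain ⟨m, hm⟩ := hc y
    refine ⟨m, fun b hb => ?_⟩
    obtain ⟨z, hz⟩ := hm b hb
    rw [← map_smul, ← hz]
    exact congr(($(cokernel.condition f)).hom z)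
  haveI : Mono ((H1Punct.Φ U).map f) :=
    Preadditive.mono_of_kernel_zero ((hK.of_iso (PreservesKernel.iso (H1Punct.Φ U) f).symm).eq_of_src _ _)
  haveI : Epi ((H1Punct.Φ U).map f) :=
    Preadditive.epi_of_cokernel_zero ((hC.of_iso (PreservesCokernel.iso (H1Punct.Φ U) f).symm).eq_of_tgt _ _)
  exact isIso_of_mono_of_epi _

/-- A submodule of sections models `F`. -/
def IsModel {F : (U : Scheme.{u}).Modules} (M : Submodule A ((secF U).obj F)) : Prop :=
  M.FG ∧ ∃ α : PhiU a (ModuleCat.of A M) ≅ F, ∀ x : M, sh a α.hom x = x.1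

theorem IsModel.coker {F : (U : Scheme.{u}).Modules} {M : Submodule A ((secF U).obj F)} (hM : IsModel a M)
    (y : (secF U).obj F) : ∃ m : ℕ, ∀ b ∈ a ^ m, b • y ∈ M := by
  obtain ⟨-, α, hα⟩ := hM
  obtain ⟨z, rfl⟩ := (ConcreteCategory.bijective_of_isIso ((secF U).map α.hom)).2 y
  obtain ⟨m, hm⟩ := eSec_coker a (ModuleCat.of A M) z
  refine ⟨m, fun b hb => ?_⟩
  obtain ⟨x, hx⟩ := hm b hb
  rw [← map_smul, ← hx]
  exact (sh_apply a α.hom x).symm.trans (hα x) ▸ x.2

theorem IsModel.torsionFree {F : (U : Scheme.{u}).Modules} {M : Submodule A ((secF U).obj F)} (hM : IsModel a M)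
    (x : M) (hx : eSec a (ModuleCat.of A M) x = 0) : x = 0 := by
  obtain ⟨-, α, hα⟩ := hM
  apply Subtype.ext
  rw [← hα x, sh_apply, hx, map_zero]
  rfl

/-- Cofinal submodules of sections contain models. -/
theorem exists_model {F : (U : Scheme.{u}).Modules} (hF : Coh.IsCoh F) (P : Submodule A ((secF U).obj F))
    (hP : ∀ y, ∃ m : ℕ, ∀ b ∈ a ^ m, b • y ∈ P) :
    ∃ M, M ≤ P ∧ IsModel a M := by
  obtain ⟨N, hN, ⟨β⟩⟩ := exists_PhiU a F hF
  haveI := hN
  let M : Submodule A ((secF U).obj F) := P ⊓ LinearMap.range (sh a β.hom)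
  have hfg : M.FG := Submodule.FG.of_le (by rw [LinearMap.range_eq_map]; exact Module.Finite.fg_top.map _) inf_le_right
  obtain ⟨α, hα⟩ := exists_of_sh a (N := ModuleCat.of A M) M.subtype
  let N' : Submodule A N := P.comap (sh a β.hom)
  let ι : ModuleCat.of A N' ⟶ N := ModuleCat.ofHom N'.subtype
  let ρ : ModuleCat.of A N' ⟶ ModuleCat.of A M :=
    ModuleCat.ofHom (LinearMap.codRestrict M ((sh a β.hom).comp N'.subtype) fun x => ⟨x.2, x.1, rfl⟩)
  haveI : IsIso ((H1Punct.Φ U).map ι) := isIso_Φ_map a ι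
    (fun x hx => ⟨0, fun b _ => by rw [show x = 0 from Subtype.ext hx, smul_zero]⟩) fun y => by
      obtain ⟨m, hm⟩ := hP (sh a β.hom y)
      exact ⟨m, fun b hb => ⟨⟨b • y, by
        show sh a β.hom (b • y) ∈ P
        rw [map_smul]; exact hm b hb⟩, rfl⟩⟩
  haveI : IsIso ((H1Punct.Φ U).map ρ) := isIso_Φ_map a ρ (fun x hx => by
      have h0 : (secF U).map β.hom (eSec a N x.1) = 0 := congrArg Subtype.val hx
      obtain ⟨m, hm⟩ := torsion_of_eSec a x.1
        ((ConcreteCategory.bijective_of_isIso ((secF U).map β.hom)).1 (h0.trans (map_zero _).symm))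
      exact ⟨m, fun b hb => Subtype.ext (hm b hb)⟩) fun y => by
      obtain ⟨z, hz⟩ := y.2.2
      exact ⟨0, fun b _ => Submodule.smul_mem _ b ⟨⟨z, (hz ▸ y.2.1 : sh a β.hom z ∈ P)⟩, Subtype.ext hz⟩⟩
  have hcomm : (H1Punct.Φ U).map ι ≫ β.hom = (H1Punct.Φ U).map ρ ≫ α := hom_ext a fun x => by
    rw [sh_map, sh_map, hα]
    rfl
  haveI : IsIso ((H1Punct.Φ U).map ρ ≫ α) := hcomm ▸ inferInstance
  haveI : IsIso α := IsIso.of_isIso_comp_left ((H1Punct.Φ U).map ρ) α
  exact ⟨M, inf_le_left, hfg, asIso α, hα⟩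

end Groth.Agent.PunctModSys
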